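import Cfsg.Agent.Lib.Sporadic.LyIndex.Data.Nodes00
import Cfsg.Agent.Lib.Sporadic.LyIndex.Data.Nodes01
import Cfsg.Agent.Lib.Sporadic.LyIndex.Data.Nodes02
import Cfsg.Agent.Lib.Sporadic.LyIndex.Data.Nodes03
import Cfsg.Agent.Lib.Sporadic.LyIndex.Data.Nodes04
import Cfsg.Agent.Lib.Sporadic.LyIndex.Data.Nodes05
import Cfsg.Agent.Lib.Sporadic.LyIndex.Data.Nodes06
import Cfsg.Agent.Lib.Sporadic.LyIndex.Data.Nodes07
import Cfsg.Agent.Lib.Sporadic.LyIndex.Data.Nodes08
import Cfsg.Agent.Lib.Sporadic.LyIndex.Data.Nodes09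
import Cfsg.Agent.Lib.Sporadic.LyIndex.Data.Nodes10
import Cfsg.Agent.Lib.Sporadic.LyIndex.Data.Nodes11
import Cfsg.Agent.Lib.Sporadic.LyIndex.Data.Nodes12

/-!
# The tables of the derivation

Machine-generated data.
-/

set_option autoImplicit false
set_option maxRecDepth 100000

namespace CfsgLib.Sporadic.CosetCert.LyIndex

/-- The chunks of statements. -/
def ndTab : List (List Nd) := [
  nd0, nd1, nd2, nd3, nd4, nd5, nd6, nd7, nd8, nd9, nd10, nd11, nd12, nd13, nd14, nd15, nd16, nd17, nd18, nd19,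
  nd20, nd21, nd22, nd23, nd24, nd25, nd26, nd27, nd28, nd29, nd30, nd31, nd32, nd33, nd34, nd35, nd36, nd37,
  nd38, nd39, nd40, nd41, nd42, nd43, nd44, nd45, nd46, nd47, nd48, nd49, nd50, nd51]

/-- The chunks of justifications. -/
def opTab : List (List Op) := [
  op0, op1, op2, op3, op4, op5, op6, op7, op8, op9, op10, op11, op12, op13, op14, op15, op16, op17, op18, op19,
  op20, op21, op22, op23, op24, op25, op26, op27, op28, op29, op30, op31, op32, op33, op34, op35, op36, op37,
  op38, op39, op40, op41, op42, op43, op44, op45, op46, op47, op48, op49, op50, op51]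

/-- The number of statements. -/
abbrev numNd : ℕ := 3269

end CfsgLib.Sporadic.CosetCert.LyIndex
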